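import Groth.Agent.Lib.AlgSpace.FlatQuot
import Groth.Agent.Lib.AlgSpace.Bootstrap
import Groth.Agent.Lib.AlgSpDescent.FppfComp

/-!
# Factoring a morphism as a flat cover followed by a monomorphism

A morphism locally of finite presentation with flat kernel pair is a flat cover followed by a
monomorphism: the fppf quotient by the kernel pair is an algebraic space with a monomorphism
locally of finite type to the target, hence a scheme.
-/

universe u

set_option autoImplicit false
set_option backward.isDefEq.respectTransparency.types false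

open CategoryTheory CategoryTheory.Limits AlgebraicGeometry Opposite

namespace Groth.Agent.MonoFact19

open AlgSp Groth.Agent.AlgSpace

theorem exists_factor {X Y : Scheme.{u}} (f : X ⟶ Y) [LocallyOfFinitePresentation f]
    [Flat (pullback.fst f f)] :
    ∃ (X' : Scheme.{u}) (f' : X ⟶ X') (f'' : X' ⟶ Y),
      Surjective f' ∧ Flat f' ∧ LocallyOfFinitePresentation f' ∧ Mono f'' ∧ f' ≫ f'' = f := by
  let U : Over Y := Over.mk f
  let R : Over Y := Over.mk (pullback.fst f f ≫ f)
  let T : Over Y := Over.mk (𝟙 Y)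
  let s : R ⟶ U := Over.homMk (pullback.fst f f) rfl
  let t : R ⟶ U := Over.homMk (pullback.snd f f) pullback.condition.symm
  have hlift : ∀ {T' : Over Y} (a b : T' ⟶ U), ∃ r : T' ⟶ R, r ≫ t = a ∧ r ≫ s = b := fun {T'} a b => by
    have w : b.left ≫ f = a.left ≫ f := (Over.w b).trans (Over.w a).symm
    refine ⟨Over.homMk (pullback.lift b.left a.left w) ?_, ?_, ?_⟩
    · exact (pullback.lift_fst_assoc _ _ _ _).trans (Over.w b)
    · exact Over.OverMorphism.ext (pullback.lift_snd _ _ _)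
    · exact Over.OverMorphism.ext (pullback.lift_fst _ _ _)
  have h : IsEqvRel s t :=
    { injective := fun T' r r' h₁ h₂ => Over.OverMorphism.ext
        (pullback.hom_ext (congrArg CommaMorphism.left h₂) (congrArg CommaMorphism.left h₁))
      equivalence := fun T' => ⟨fun a => hlift a a, fun {a b} _ => hlift b a, fun {a b c} _ _ => hlift a c⟩ }
  have : Flat s.left := ‹Flat (pullback.fst f f)›
  have : LocallyOfFinitePresentation s.left := inferInstanceAs (LocallyOfFinitePresentation (pullback.fst f f))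
  obtain ⟨w, ⟨hc⟩⟩ := nonempty_isColimit_quot s t
  let p := (QuotSh.repIsoUliftYoneda Scheme.fppfPrecoverage U).inv ≫ QuotSh.quotπ Scheme.fppfPrecoverage s t
  have : Sheaf.IsLocallySurjective p := isLocallySurjective_quotπ s t
  have sq : IsPullback ((yon Y).map t) ((yon Y).map s) p p := isPullback_of_isEqvRel h w hc
  obtain ⟨hF, hfl, hfp, hs⟩ := isAlgSpace_of_flat_kernelPair sq
  -- the quotient has at most one point over each scheme
  have hsub : ∀ {Z : Sp Y} (z₁ z₂ : Z ⟶ QuotSh.quot Scheme.fppfPrecoverage s t), z₁ = z₂ := by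
    intro Z z₁ z₂
    have : Sheaf.IsLocallySurjective (prod.map p p) := isLocallySurjective_prod_map p p
    have : Epi (prod.map p p) := (CategoryTheory.Sheaf.isLocallySurjective_iff_epi _).1 this
    have e : (prod.fst : QuotSh.quot Scheme.fppfPrecoverage s t ⨯ QuotSh.quot Scheme.fppfPrecoverage s t ⟶ _) =
        prod.snd := by
      rw [← cancel_epi (prod.map p p), prod.map_fst, prod.map_snd]
      refine hom_ext_yon fun T' z => ?_
      obtain ⟨a, ha⟩ := (yon Y).map_surjective (z ≫ prod.fst)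
      obtain ⟨b, hb⟩ := (yon Y).map_surjective (z ≫ prod.snd)
      obtain ⟨r, hr₁, hr₂⟩ := hlift a b
      rw [← Category.assoc z, ← Category.assoc z, ← ha, ← hb, ← hr₁, ← hr₂, Functor.map_comp, Functor.map_comp,
        Category.assoc, Category.assoc, sq.w]
    calc z₁ = prod.lift z₁ z₂ ≫ prod.fst := (prod.lift_fst _ _).symm
      _ = prod.lift z₁ z₂ ≫ prod.snd := congrArg (prod.lift z₁ z₂ ≫ ·) e
      _ = z₂ := prod.lift_snd _ _
  -- the map to the final scheme
  let c : U ⟶ T := Over.homMk f (Category.comp_id f)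
  have hcT : s ≫ c = t ≫ c := Over.OverMorphism.ext pullback.condition
  obtain ⟨j, hj⟩ := Cofork.IsColimit.desc' hc ((yon Y).map c)
    (by rw [← Functor.map_comp, ← Functor.map_comp, hcT])
  replace hj : p ≫ j = (yon Y).map c := hj
  have : Mono j := ⟨fun a b _ => hsub a b⟩
  have hpc : LocP @LocallyOfFiniteType ((yon Y).map c) :=
    locP_of_repWith (IsAlgSpace.yon_obj T) ((repWith_yon_map_iff _ _).2 (inferInstanceAs (LocallyOfFiniteType f)))
  have hjl : LocP @LocallyOfFiniteType j :=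
    AlgSpDescent.locP_of_fppf_comp (P := @LocallyOfFiniteType)
      (fun _ _ _ => AlgSpDescent.locallyOfFiniteType_of_fppf_comp)
      (IsAlgSpace.yon_obj U) hF (IsAlgSpace.yon_obj T) p j
      (surjective_map_of_repWith hs) (locP_of_repWith hF hfl) (locP_of_repWith hF hfp) (hj ▸ hpc)
  obtain ⟨W, ⟨e⟩⟩ := exists_iso_yon_of_mono_lft hF j hjl
  obtain ⟨π, hπ⟩ := (yon Y).map_surjective (p ≫ e.inv)
  have prop : ∀ (P : MorphismProperty Scheme.{u}) [P.IsStableUnderBaseChange], RepWith P p → P π.left := by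
    intro P _ hP
    have : RepWith P ((yon Y).map π) := by
      rw [hπ, repWith_respectsIso_right]
      exact hP
    exact (repWith_yon_map_iff _ _).1 this
  refine ⟨W.left, π.left, W.hom, prop @Surjective hs, prop @Flat hfl, prop @LocallyOfFinitePresentation hfp,
    ⟨fun {A} a b hab => ?_⟩, Over.w π⟩
  let a' : Over.mk (a ≫ W.hom) ⟶ W := Over.homMk a rfl
  let b' : Over.mk (a ≫ W.hom) ⟶ W := Over.homMk b hab.symm
  have : a' = b' := (yon Y).map_injective ((cancel_mono e.hom).1 (hsub _ _))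
  exact congrArg CommaMorphism.left this

theorem factor_unique {X Y X₁ X₂ : Scheme.{u}} {f : X ⟶ Y} (g₁ : X ⟶ X₁) (h₁ : X₁ ⟶ Y) (g₂ : X ⟶ X₂) (h₂ : X₂ ⟶ Y)
    [Surjective g₁] [Flat g₁] [LocallyOfFinitePresentation g₁] [Mono h₁] (e₁ : g₁ ≫ h₁ = f)
    [Surjective g₂] [Flat g₂] [LocallyOfFinitePresentation g₂] [Mono h₂] (e₂ : g₂ ≫ h₂ = f) :
    ∃ φ : X₁ ≅ X₂, g₁ ≫ φ.hom = g₂ ∧ φ.hom ≫ h₂ = h₁ := by
  have c₁ : ∀ {Z : Scheme.{u}} (a b : Z ⟶ X), a ≫ g₁ = b ≫ g₁ → a ≫ g₂ = b ≫ g₂ := fun a b h => by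
    rw [← cancel_mono h₂, Category.assoc, Category.assoc, e₂, ← e₁, ← Category.assoc, h, Category.assoc]
  have c₂ : ∀ {Z : Scheme.{u}} (a b : Z ⟶ X), a ≫ g₂ = b ≫ g₂ → a ≫ g₁ = b ≫ g₁ := fun a b h => by
    rw [← cancel_mono h₁, Category.assoc, Category.assoc, e₁, ← e₂, ← Category.assoc, h, Category.assoc]
  let φ : X₁ ⟶ X₂ := EffectiveEpi.desc g₁ g₂ c₁
  let ψ : X₂ ⟶ X₁ := EffectiveEpi.desc g₂ g₁ c₂
  have hφ : g₁ ≫ φ = g₂ := EffectiveEpi.fac _ _ _
  have hψ : g₂ ≫ ψ = g₁ := EffectiveEpi.fac _ _ _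
  refine ⟨⟨φ, ψ, ?_, ?_⟩, hφ, ?_⟩
  · rw [← cancel_epi g₁, reassoc_of% hφ, hψ, Category.comp_id]
  · rw [← cancel_epi g₂, reassoc_of% hψ, hφ, Category.comp_id]
  · show φ ≫ h₂ = h₁
    rw [← cancel_epi g₁, reassoc_of% hφ, e₁, e₂]

theorem flat_fst_of_factor {X Y X' : Scheme.{u}} {f : X ⟶ Y} (g : X ⟶ X') (h : X' ⟶ Y)
    [Flat g] [Mono h] (e : g ≫ h = f) : Flat (pullback.fst f f) := by
  subst e
  have sq : IsPullback (pullback.fst g g) (pullback.snd g g) (g ≫ h) (g ≫ h) :=
    ⟨⟨by rw [← Category.assoc, pullback.condition, Category.assoc]⟩, ⟨PullbackCone.IsLimit.mk _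
      (fun c => pullback.lift c.fst c.snd ((cancel_mono h).1 (by simpa only [Category.assoc] using c.condition)))
      (fun c => pullback.lift_fst _ _ _) (fun c => pullback.lift_snd _ _ _)
      fun c m h1 h2 => pullback.hom_ext (h1.trans (pullback.lift_fst _ _ _).symm) (h2.trans (pullback.lift_snd _ _ _).symm)⟩⟩
  rw [← sq.isoPullback_inv_fst]
  infer_instance

end Groth.Agent.MonoFact19
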